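import Groth.Agent.H06GeomRed.Generization
import Groth.Agent.H17.Fibre
import Groth.Agent.H8Props.FlatLocus.Scheme

/-!
Openness of the locus of flatness with geometrically reduced fibres.
-/

set_option autoImplicit false
set_option backward.isDefEq.respectTransparency false
set_option linter.style.haveILetI false

open CategoryTheory CategoryTheory.Limits AlgebraicGeometry TopologicalSpace Topology TensorProduct

universe u

namespace Groth.Agent.H06GeomRed

variable {X Y : Scheme.{u}}

/-- The locus of points where the fibre is geometrically reduced. -/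
def Locus (f : X ⟶ Y) : Set X :=
  {x | FBase.IsGeomReducedAt (f.fiberToSpecResidueField (f.base x)) (f.asFiber x)}

/-- Geometric reducedness at a point of a fibre in terms of field valued points of the base. -/
theorem mem_locus_iff (f : X ⟶ Y) (x : X) :
    x ∈ Locus f ↔ ∀ (K : Type u) [Field K] (a : Spec (CommRingCat.of K) ⟶ Y) (z : ↥(pullback f a)),
      pullback.fst f a z = x → _root_.IsReduced ((pullback f a).presheaf.stalk z) := by
  constructor
  · intro h K _ a z hz
    obtain ⟨⟨y, θ⟩, rfl⟩ := (Scheme.SpecToEquivOfField K Y).symm.surjective a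
    letI : Algebra (IsLocalRing.ResidueField (Y.presheaf.stalk y)) K := θ.hom.toAlgebra
    let k₀ := Spec.map θ ≫ Y.fromSpecResidueField y
    have hy : f x = y := by
      rw [← hz]
      show (pullback.fst f k₀ ≫ f) z = y
      rw [pullback.condition, Scheme.Hom.comp_apply, Scheme.Hom.comp_apply, Scheme.fromSpecResidueField_apply]
    subst hy
    have hbig : IsPullback (FBase.bcπ (f.fiberToSpecResidueField (f x)) K ≫ f.fiberι (f x))
        (pullback.snd (f.fiberToSpecResidueField (f x)) (Spec.map θ)) f k₀ :=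
      (IsPullback.of_hasPullback (f.fiberToSpecResidueField (f x)) (Spec.map θ)).paste_horiz
        (IsPullback.of_hasPullback f (Y.fromSpecResidueField (f x)))
    let e := hbig.isoPullback
    have hu : (FBase.bcπ (f.fiberToSpecResidueField (f x)) K) (e.inv z) = f.asFiber x := by
      refine (f.fiberι (f x)).isEmbedding.injective ?_
      rw [f.fiberι_asFiber]
      refine Eq.trans ?_ hz
      exact congrArg (fun φ : pullback f k₀ ⟶ X => φ z) (hbig.isoPullback_inv_fst)
    haveI := h K (e.inv z) hu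
    exact isReduced_of_injective (asIso (e.inv.stalkMap z)).commRingCatIsoToRingEquiv.symm.toRingHom
      (asIso (e.inv.stalkMap z)).commRingCatIsoToRingEquiv.symm.injective
  · intro h K _ _ u hu
    let θ := Spec.map (CommRingCat.ofHom (algebraMap (IsLocalRing.ResidueField (Y.presheaf.stalk (f x))) K))
    let k₀ := θ ≫ Y.fromSpecResidueField (f x)
    have hbig : IsPullback (FBase.bcπ (f.fiberToSpecResidueField (f x)) K ≫ f.fiberι (f x))
        (pullback.snd (f.fiberToSpecResidueField (f x)) θ) f k₀ :=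
      (IsPullback.of_hasPullback (f.fiberToSpecResidueField (f x)) θ).paste_horiz
        (IsPullback.of_hasPullback f (Y.fromSpecResidueField (f x)))
    let e := hbig.isoPullback
    haveI := h K k₀ (e.hom u) (by
      rw [← Scheme.Hom.comp_apply, IsPullback.isoPullback_hom_fst, Scheme.Hom.comp_apply,
        show (FBase.bcπ (f.fiberToSpecResidueField (f x)) K) u = f.asFiber x from hu]
      exact f.fiberι_asFiber x)
    exact isReduced_of_injective (asIso (e.hom.stalkMap u)).commRingCatIsoToRingEquiv.symm.toRingHom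
      (asIso (e.hom.stalkMap u)).commRingCatIsoToRingEquiv.symm.injective

/-- The locus is local on the source. -/
theorem mem_locus_openImmersion_comp {W : Scheme.{u}} (j : W ⟶ X) [IsOpenImmersion j] (f : X ⟶ Y) (w : W) :
    w ∈ Locus (j ≫ f) ↔ j w ∈ Locus f := by
  rw [mem_locus_iff, mem_locus_iff]
  constructor
  · intro h K _ a z hz
    let m := pullback.map (j ≫ f) a f a j (𝟙 _) (𝟙 _) (by simp) (by simp)
    obtain ⟨v, rfl⟩ : z ∈ Set.range m := by
      rw [show Set.range m = _ from Scheme.Pullback.range_map ..]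
      exact ⟨⟨w, hz.symm⟩, _, rfl⟩
    haveI := h K a v (j.isOpenEmbedding.injective (by
      rw [← hz, ← Scheme.Hom.comp_apply, ← Scheme.Hom.comp_apply, pullback.lift_fst]))
    exact isReduced_of_injective (asIso (m.stalkMap v)).commRingCatIsoToRingEquiv.toRingHom
      (asIso (m.stalkMap v)).commRingCatIsoToRingEquiv.injective
  · intro h K _ a v hv
    let m := pullback.map (j ≫ f) a f a j (𝟙 _) (𝟙 _) (by simp) (by simp)
    haveI := h K a (m v) (by rw [← hv, ← Scheme.Hom.comp_apply, ← Scheme.Hom.comp_apply, pullback.lift_fst])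
    exact isReduced_of_injective (asIso (m.stalkMap v)).commRingCatIsoToRingEquiv.symm.toRingHom
      (asIso (m.stalkMap v)).commRingCatIsoToRingEquiv.symm.injective

/-- A fibre is geometrically reduced exactly when all its points lie in the locus. -/
theorem geometricallyReduced_fiber_iff_forall (f : X ⟶ Y) (y : Y) :
    GeometricallyReduced (f.fiberToSpecResidueField y) ↔ ∀ x, f x = y → x ∈ Locus f := by
  rw [H7Flat.GeomReduced.geometricallyReduced_fiber_iff]
  constructor
  · intro h x hx
    rw [mem_locus_iff]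
    intro K _ a z hz
    haveI := h K a (by
      rw [← hx, ← hz, ← Scheme.Hom.comp_apply, pullback.condition, Scheme.Hom.comp_apply]
      exact congrArg a (Subsingleton.elim (α := PrimeSpectrum K) _ _))
    infer_instance
  · intro h K _ a ha
    haveI : ∀ z : ↥(pullback f a), _root_.IsReduced ((pullback f a).presheaf.stalk z) := fun z => by
      refine (mem_locus_iff f (pullback.fst f a z)).mp (h _ ?_) K a z rfl
      rw [← Scheme.Hom.comp_apply, pullback.condition, Scheme.Hom.comp_apply, ← ha]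
      exact congrArg a (Subsingleton.elim (α := PrimeSpectrum K) _ _)
    exact isReduced_of_isReduced_stalk _

theorem mem_locus_of_fiberι (f : X ⟶ Y) {y : Y} {v : ↥(f.fiber y)}
    (h : FBase.IsGeomReducedAt (f.fiberToSpecResidueField y) v) : f.fiberι y v ∈ Locus f := by
  obtain ⟨x, hx⟩ : ∃ x, f.fiberι y v = x := ⟨_, rfl⟩
  rw [hx]
  obtain rfl : f x = y := hx ▸ (f.range_fiberι y).le (Set.mem_range_self v)
  obtain rfl : v = f.asFiber x := (f.fiberι _).isEmbedding.injective (hx.trans (f.fiberι_asFiber _).symm)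
  exact h

/-- Points of the locus have affine neighbourhoods with geometrically reduced fibre. -/
theorem exists_affine_nhd (f : X ⟶ Y) [LocallyOfFiniteType f] {x : X} (hx : x ∈ Locus f) (O : X.Opens) (hxO : x ∈ O) :
    ∃ W : X.Opens, IsAffineOpen W ∧ x ∈ W ∧ W ≤ O ∧
      GeometricallyReduced ((W.ι ≫ f).fiberToSpecResidueField (f x)) := by
  haveI := H17.isLocallyNoetherian_fiber f (f x)
  obtain ⟨G, hG, hGeq⟩ := (f.fiberι (f x)).isEmbedding.isInducing.isOpen_iff.mp
    (isOpen_setOf_isGeomReducedAt (f.fiberToSpecResidueField (f x)))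
  have hmem : x ∈ G := by
    have : f.asFiber x ∈ (f.fiberι (f x)) ⁻¹' G := hGeq ▸ hx
    simpa [Scheme.Hom.fiberι_asFiber] using this
  obtain ⟨W, hW, hxW, hWle⟩ := exists_isAffineOpen_mem_and_subset (U := O ⊓ ⟨G, hG⟩) (x := x) ⟨hxO, hmem⟩
  refine ⟨W, hW, hxW, fun w hw => (hWle hw).1, (geometricallyReduced_fiber_iff_forall _ _).mpr fun w hw => ?_⟩
  rw [mem_locus_openImmersion_comp]
  obtain ⟨v, hv⟩ := (f.range_fiberι (f x)).ge (show W.ι w ∈ f ⁻¹' {f x} from hw)
  have hvG : FBase.IsGeomReducedAt (f.fiberToSpecResidueField (f x)) v := by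
    have : v ∈ (f.fiberι (f x)) ⁻¹' G := by
      show f.fiberι (f x) v ∈ G
      rw [hv]; exact (hWle (W.range_ι.le ⟨w, rfl⟩)).2
    exact hGeq.le this
  exact hv ▸ mem_locus_of_fiberι f hvG

/-- The locus is stable under generization for flat morphisms. -/
theorem mem_locus_of_specializes (f : X ⟶ Y) [Flat f] [LocallyOfFinitePresentation f] {x z : X}
    (hx : x ∈ Locus f) (h : z ⤳ x) : z ∈ Locus f := by
  obtain ⟨W, hW, hxW, -, hred⟩ := exists_affine_nhd f hx ⊤ trivial
  obtain ⟨x', rfl⟩ := W.range_ι.ge hxW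
  obtain ⟨z', rfl⟩ := W.range_ι.ge (h.mem_open W.2 hxW)
  rw [← mem_locus_openImmersion_comp, mem_locus_iff]
  intro K _ a v hv
  refine isReduced_stalk_pullback_of_specializes (W.ι ≫ f) x' hred K a v ?_
  rw [hv]
  exact W.ι.isEmbedding.specializes_iff.mp h

/-- Openness from generization and a dense open part of every closure, on Noetherian spaces. -/
theorem isOpen_of_generization {α : Type u} [TopologicalSpace α] [NoetherianSpace α] [QuasiSober α] {E : Set α}
    (hgen : StableUnderGeneralization E)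
    (h : ∀ z ∈ E, ∃ O, IsOpen O ∧ z ∈ O ∧ O ∩ closure {z} ⊆ E) : IsOpen E := by
  refine isOpen_iff_mem_nhds.mpr fun x hx => ?_
  by_contra hne
  obtain ⟨W, hW, hWi, hxW, hd⟩ := H28Top.exists_irreducible_of_mem_closure (E := Eᶜ) (x := x)
    (by rwa [closure_compl, Set.mem_compl_iff, mem_interior_iff_mem_nhds])
  have hg := hWi.isGenericPoint_genericPoint hW
  obtain ⟨O, hO, hzO, hsub⟩ := h _ (hgen (hg.specializes hxW) hx)
  obtain ⟨w, hwO, hwE, hwW⟩ := mem_closure_iff.mp (hd hg.mem) O hO hzO
  exact hwE (hsub ⟨hwO, (hg.specializes hwW).mem_closure⟩)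

/-- Openness of the locus for flat morphisms of affine Noetherian schemes. -/
theorem isOpen_locus_noetherian [IsAffine X] [IsAffine Y] [IsNoetherian Y] (f : X ⟶ Y) [Flat f]
    [LocallyOfFiniteType f] [LocallyOfFinitePresentation f] : IsOpen (Locus f) := by
  haveI : IsLocallyNoetherian X := LocallyOfFiniteType.isLocallyNoetherian f
  haveI : IsNoetherian X := {}
  refine isOpen_of_generization (fun x z hxz hx => mem_locus_of_specializes f hx hxz) fun z hz => ?_
  obtain ⟨W, hW, hzW, -, hred⟩ := exists_affine_nhd f hz ⊤ trivial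
  haveI : IsAffine W.toScheme := hW
  haveI : QuasiCompact (W.ι ≫ f) := (quasiCompact_iff_compactSpace _).mpr inferInstance
  have hC : IsConstructible {y : Y | GeometricallyReduced ((W.ι ≫ f).fiberToSpecResidueField y)} :=
    H7Flat.GeomReduced.isConstructible_noetherian (W.ι ≫ f)
  have hS : IsIrreducible (closure ({f z} : Set Y)) := isIrreducible_singleton.closure
  obtain ⟨U, hU, hUne, hUC⟩ := H28Top.IsConstructible.exists_isOpen_inter_subset hC hS
    (closure_mono (Set.singleton_subset_iff.mpr ⟨hred, subset_closure rfl⟩))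
  have hzU : f z ∈ U := by
    obtain ⟨w, hwU, hw⟩ := hUne
    exact (specializes_iff_mem_closure.mpr hw).mem_open hU hwU
  refine ⟨(W : Set X) ∩ f ⁻¹' U, W.2.inter (hU.preimage f.continuous), ⟨hzW, hzU⟩, ?_⟩
  rintro w ⟨⟨hwW, hwU⟩, hw⟩
  obtain ⟨w', rfl⟩ := W.range_ι.ge hwW
  have hfw : f (W.ι w') ∈ U ∩ closure {f z} :=
    ⟨hwU, by
      have := image_closure_subset_closure_image f.continuous ⟨W.ι w', hw, rfl⟩
      rwa [Set.image_singleton] at this⟩
  exact (mem_locus_openImmersion_comp W.ι f w').mp ((geometricallyReduced_fiber_iff_forall _ _).mp (hUC hfw) w' rfl)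

/-- The locus commutes with base change. -/
theorem preimage_locus {X' Y' : Scheme.{u}} {f' : X' ⟶ Y'} {f : X ⟶ Y} {gX : X' ⟶ X} {gY : Y' ⟶ Y}
    (hP : IsPullback gX f' f gY) : gX ⁻¹' Locus f = Locus f' := by
  ext x
  exact ⟨fun h => H06SecComp.isGeomReducedAt_baseChange hP h, fun h => H06SecComp.isGeomReducedAt_of_model hP h⟩

/-- The locus of flatness with geometrically reduced fibre is open. -/
theorem isOpen_setOf_flat_and_mem_locus (f : X ⟶ Y) [LocallyOfFinitePresentation f] :
    IsOpen {x : X | (f.stalkMap x).hom.Flat ∧ x ∈ Locus f} := by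
  refine isOpen_iff_forall_mem_open.mpr fun x ⟨hflat, hx⟩ => ?_
  obtain ⟨V, hV, hxV, -⟩ := exists_isAffineOpen_mem_and_subset (X := Y) (x := f x) (U := ⊤) trivial
  obtain ⟨W, hW, hxW, hWle⟩ := exists_isAffineOpen_mem_and_subset
    (U := (⟨_, H8Props.FlatLocus.isOpen_setOf_flat_stalkMap f⟩ : X.Opens) ⊓ f ⁻¹ᵁ V) (x := x) ⟨hflat, hxV⟩
  have e : W ≤ f ⁻¹ᵁ V := fun w hw => (hWle hw).2
  let φ := Spec.map (f.appLE V W e)
  have hsq : φ ≫ hV.fromSpec = hW.fromSpec ≫ f := IsAffineOpen.SpecMap_appLE_fromSpec f hV hW e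
  letI := (f.appLE V W e).hom.toAlgebra
  haveI : Algebra.FinitePresentation Γ(Y, V) Γ(X, W) := f.finitePresentation_appLE hV hW e
  haveI : Flat φ := by
    haveI : Flat (hW.fromSpec ≫ f) := (Flat.iff_flat_stalkMap _).mpr fun w => by
      rw [Scheme.Hom.stalkMap_comp]
      simp only [CommRingCat.hom_comp]
      exact RingHom.Flat.comp ((hWle (hW.range_fromSpec.le ⟨w, rfl⟩)).1)
        (RingHom.Flat.of_bijective (ConcreteCategory.bijective_of_isIso (hW.fromSpec.stalkMap w)))
    rw [← hsq] at this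
    exact MorphismProperty.of_postcomp (W := @Flat) (W' := @IsOpenImmersion) φ hV.fromSpec inferInstance this
  haveI : Module.Flat Γ(Y, V) Γ(X, W) := (HasRingHomProperty.Spec_iff (P := @Flat)).mp (inferInstanceAs (Flat φ))
  obtain ⟨R₀, hR₀, A₀, _, _, _, _, ⟨ε⟩⟩ := H13Flat.exists_flat_stage Γ(Y, V) Γ(X, W)
  haveI : IsNoetherianRing R₀ := by
    haveI := R₀.fg_iff_finiteType.1 hR₀
    exact Algebra.FiniteType.isNoetherianRing ℤ R₀
  haveI : IsNoetherianRing (CommRingCat.of R₀) := ‹IsNoetherianRing R₀›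
  let φ₀ := Spec.map (CommRingCat.ofHom (algebraMap R₀ A₀))
  haveI : Flat φ₀ := (HasRingHomProperty.Spec_iff (P := @Flat)).mpr (RingHom.flat_algebraMap_iff.mpr inferInstance)
  haveI : LocallyOfFinitePresentation φ₀ := (HasRingHomProperty.Spec_iff (P := @LocallyOfFinitePresentation)).mpr
    (RingHom.finitePresentation_algebraMap.mpr inferInstance)
  have hT := (isPullback_SpecMap_of_isPushout _ _ _ _
    (CommRingCat.isPushout_tensorProduct R₀ Γ(Y, V) A₀)).flip
  have hεalg : Spec.map (CommRingCat.ofHom ε.toRingEquiv.toRingHom) ≫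
      Spec.map (CommRingCat.ofHom (algebraMap Γ(Y, V) (Γ(Y, V) ⊗[R₀] A₀))) = φ := by
    rw [← Spec.map_comp]
    refine congrArg Spec.map (CommRingCat.hom_ext (RingHom.ext fun r => ?_))
    exact ε.commutes r
  haveI : IsIso (Spec.map (CommRingCat.ofHom ε.toRingEquiv.toRingHom)) := by
    haveI : IsIso (CommRingCat.ofHom ε.toRingEquiv.toRingHom) :=
      (ConcreteCategory.isIso_iff_bijective _).mpr ε.bijective
    infer_instance
  have hP := (IsPullback.of_horiz_isIso (fst := Spec.map (CommRingCat.ofHom ε.toRingEquiv.toRingHom)) (snd := φ)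
    (f := Spec.map (CommRingCat.ofHom (algebraMap Γ(Y, V) (Γ(Y, V) ⊗[R₀] A₀)))) (g := 𝟙 _)
    ⟨by rw [Category.comp_id]; exact hεalg⟩).paste_horiz hT
  have hopen : IsOpen (Locus φ) := by
    rw [← preimage_locus hP]
    exact (isOpen_locus_noetherian φ₀).preimage (Scheme.Hom.continuous _)
  have hloc : Locus φ = hW.fromSpec ⁻¹' Locus f := by
    ext w
    have hpb : IsPullback (𝟙 _) φ (hW.fromSpec ≫ f) hV.fromSpec :=
      ⟨⟨by rw [Category.id_comp, hsq]⟩, ⟨PullbackCone.IsLimit.mk _ (fun s => s.fst) (fun s => Category.comp_id _)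
        (fun s => by rw [← cancel_mono hV.fromSpec, Category.assoc, hsq, s.condition])
        (fun s m h1 _ => by simpa using h1)⟩⟩
    rw [← preimage_locus hpb]
    exact mem_locus_openImmersion_comp hW.fromSpec f w
  rw [hloc] at hopen
  obtain ⟨w, rfl⟩ := hW.range_fromSpec.ge hxW
  refine ⟨hW.fromSpec '' (hW.fromSpec ⁻¹' Locus f), ?_, hW.fromSpec.isOpenEmbedding.isOpenMap _ hopen, ⟨w, hx, rfl⟩⟩
  rintro _ ⟨v, hv, rfl⟩
  exact ⟨(hWle (hW.range_fromSpec.le ⟨v, rfl⟩)).1, hv⟩

end Groth.Agent.H06GeomRed
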