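import Groth.Agent.H13Flat.Algebra
import Mathlib.LinearAlgebra.TensorProduct.Pi
import Mathlib.RingTheory.Ideal.MinimalPrime.Noetherian
import Mathlib.RingTheory.Nilpotent.Lemmas
import Mathlib.RingTheory.LocalRing.ResidueField.Ideal
import Mathlib.RingTheory.Spectrum.Prime.RingHom
import Mathlib.RingTheory.Flat.Stability

/-!
Flat algebras of finite presentation over reduced rings with reduced fibres are reduced.
-/

open TensorProduct

universe u

namespace Groth.Agent.H06GeomRed

/-- Elements of a flat algebra over a reduced Noetherian ring vanishing in every fibre over a minimal prime are zero. -/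
theorem eq_zero_of_forall_minimalPrimes {R A : Type u} [CommRing R] [IsNoetherianRing R] [_root_.IsReduced R]
    [CommRing A] [Algebra R A] [Module.Flat R A] (a : A)
    (h : ∀ p : PrimeSpectrum R, p.asIdeal ∈ minimalPrimes R → a ⊗ₜ[R] (1 : p.asIdeal.ResidueField) = 0) : a = 0 := by
  classical
  let S := {p : PrimeSpectrum R // p.asIdeal ∈ minimalPrimes R}
  haveI : Finite S := by
    haveI := (minimalPrimes.finite_of_isNoetherianRing R).to_subtype
    exact Finite.of_injective (fun p : S => (⟨p.1.asIdeal, p.2⟩ : minimalPrimes R))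
      (fun p q hpq => Subtype.ext (PrimeSpectrum.ext (congrArg Subtype.val hpq)))
  haveI : Fintype S := Fintype.ofFinite S
  let φ : R →ₗ[R] ∀ p : S, p.1.asIdeal.ResidueField :=
    LinearMap.pi fun p => Algebra.linearMap R p.1.asIdeal.ResidueField
  have hφ : Function.Injective φ := by
    rw [injective_iff_map_eq_zero]
    intro r hr
    refine IsNilpotent.eq_zero ?_
    rw [nilpotent_iff_mem_prime]
    intro J hJ
    obtain ⟨p, hp, hpJ⟩ := Ideal.exists_minimalPrimes_le (bot_le (a := J))
    haveI := hp.1.1
    have := congrFun hr ⟨⟨p, hp.1.1⟩, hp⟩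
    exact hpJ (Ideal.algebraMap_residueField_eq_zero.mp this)
  have hinj := Module.Flat.lTensor_preserves_injective_linearMap (M := A) φ hφ
  have h0 : φ.lTensor A (a ⊗ₜ[R] (1 : R)) = 0 := by
    refine (TensorProduct.piRight R R A fun p : S => p.1.asIdeal.ResidueField).injective ?_
    rw [map_zero]
    funext p
    rw [LinearMap.lTensor_tmul, TensorProduct.piRight_apply, TensorProduct.piRightHom_tmul]
    show a ⊗ₜ[R] (algebraMap R p.1.asIdeal.ResidueField 1) = 0
    rw [map_one]
    exact h p.1 p.2
  have := congrArg (TensorProduct.rid R A) (hinj (h0.trans (map_zero _).symm))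
  simpa using this

/-- A flat algebra of finite presentation over a reduced ring with reduced fibres is reduced. -/
theorem isReduced_of_flat_of_reduced_fibres {R A : Type u} [CommRing R] [_root_.IsReduced R] [CommRing A]
    [Algebra R A] [Algebra.FinitePresentation R A] [Module.Flat R A]
    (h : ∀ p : PrimeSpectrum R, _root_.IsReduced (A ⊗[R] p.asIdeal.ResidueField)) : _root_.IsReduced A := by
  classical
  obtain ⟨R₀, hR₀, A₀, _, _, _, _, ⟨ε⟩⟩ := H13Flat.exists_flat_stage R A
  refine ⟨fun a ha => ?_⟩
  obtain ⟨v, rfl⟩ := ε.surjective a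
  obtain ⟨T, hT⟩ := TensorProduct.exists_finset (R := R₀) v
  let R' : Subalgebra ℤ R := R₀ ⊔ Algebra.adjoin ℤ ((T.image Prod.fst : Finset R) : Set R)
  have hR' : R'.FG := hR₀.sup (Subalgebra.fg_adjoin_finset _)
  letI : Algebra R₀ R' := (Subalgebra.inclusion (le_sup_left : R₀ ≤ R')).toRingHom.toAlgebra
  haveI : IsScalarTower R₀ R' R := IsScalarTower.of_algebraMap_eq fun _ => rfl
  haveI : IsNoetherianRing R' := by
    haveI := R'.fg_iff_finiteType.1 hR'
    exact Algebra.FiniteType.isNoetherianRing ℤ R'
  haveI : _root_.IsReduced R' := isReduced_of_injective R'.val.toRingHom Subtype.val_injective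
  let i : R' →ₐ[R₀] R := IsScalarTower.toAlgHom R₀ R' R
  let A' := R' ⊗[R₀] A₀
  let ι : A' →ₐ[R₀] R ⊗[R₀] A₀ := Algebra.TensorProduct.map i (AlgHom.id R₀ A₀)
  have hι : Function.Injective ι :=
    Module.Flat.rTensor_preserves_injective_linearMap (M := A₀) i.toLinearMap Subtype.val_injective
  obtain ⟨v', rfl⟩ : ∃ v', ι v' = v := by
    refine ⟨∑ t ∈ T.attach, (⟨t.1.1, le_sup_right (a := R₀) (Algebra.subset_adjoin
      (Finset.mem_coe.2 (Finset.mem_image_of_mem Prod.fst t.2)))⟩ : R') ⊗ₜ[R₀] t.1.2, ?_⟩
    rw [map_sum, hT, ← Finset.sum_attach T (fun t => t.1 ⊗ₜ[R₀] t.2)]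
    exact Finset.sum_congr rfl fun t _ => rfl
  have hv' : IsNilpotent v' := by
    obtain ⟨n, hn⟩ := ha
    exact ⟨n, hι (ε.injective (by rw [map_pow, map_pow, hn, map_zero, map_zero]))⟩
  suffices v' = 0 by rw [this, map_zero, map_zero]
  refine eq_zero_of_forall_minimalPrimes (R := R') v' fun p hp => ?_
  -- a prime of `R` over the minimal prime
  obtain ⟨P, hP, hPp⟩ := Ideal.exists_comap_eq_of_mem_minimalPrimes_of_injective (f := R'.val.toRingHom)
    Subtype.val_injective p.asIdeal hp
  haveI := hP
  let L := P.ResidueField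
  haveI : IsScalarTower R₀ R' L := IsScalarTower.of_algebraMap_eq fun r => by
    rw [IsScalarTower.algebraMap_apply R₀ R L, IsScalarTower.algebraMap_apply R₀ R' R,
      ← IsScalarTower.algebraMap_apply R' R L]
  have hL : p.asIdeal = (P.comap R'.val.toRingHom) := hPp.symm
  let ψ : p.asIdeal.ResidueField →ₐ[R'] L :=
    { Ideal.ResidueField.map p.asIdeal P (algebraMap R' R) hL with
      commutes' := fun r => by
        show Ideal.ResidueField.map p.asIdeal P (algebraMap R' R) hL (algebraMap R' _ r) = _
        rw [Ideal.ResidueField.map_algebraMap, ← IsScalarTower.algebraMap_apply] }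
  have hψ : Function.Injective ψ := ψ.toRingHom.injective
  refine Module.Flat.lTensor_preserves_injective_linearMap (M := A') ψ.toLinearMap hψ ?_
  rw [LinearMap.lTensor_tmul, map_zero]
  show v' ⊗ₜ[R'] ψ 1 = 0
  rw [map_one]
  haveI : _root_.IsReduced (A' ⊗[R'] L) := by
    haveI := h ⟨P, hP⟩
    haveI : _root_.IsReduced (L ⊗[R] A) := isReduced_of_injective
      (Algebra.TensorProduct.comm R L A).toRingEquiv.toRingHom (Algebra.TensorProduct.comm R L A).injective
    let e : A' ⊗[R'] L ≃+* L ⊗[R] A :=
      (Algebra.TensorProduct.comm R' A' L).toRingEquiv.trans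
        ((Algebra.TensorProduct.cancelBaseChange R₀ R' R' L A₀).toRingEquiv.trans
          ((Algebra.TensorProduct.cancelBaseChange R₀ R R L A₀).symm.toRingEquiv.trans
            (Algebra.TensorProduct.congr (AlgEquiv.refl : L ≃ₐ[R] L) ε).toRingEquiv))
    exact isReduced_of_injective e.toRingHom e.injective
  exact (hv'.map (Algebra.TensorProduct.includeLeft (R := R') (S := R') (A := A') (B := L))).eq_zero

end Groth.Agent.H06GeomRed
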