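import Groth.Agent.H22Alg.VarGeom
import Groth.Agent.H06Desc.Geom
import Groth.Prelude.Def_FDesc
import Mathlib.AlgebraicGeometry.SpreadingOut

/-!
Openness of the geometrically reduced locus of a locally Noetherian scheme over a field.
-/

open CategoryTheory CategoryTheory.Limits AlgebraicGeometry TensorProduct

universe u

namespace Groth.Agent.H06GeomRed

/-- An extension of scalars is reduced as soon as its nilpotents die at the points over a prime containing all
zero divisors. -/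
theorem isReduced_tensor_of_prime {k A Ω : Type u} [Field k] [CommRing A] [Algebra k A] [Field Ω] [Algebra k Ω]
    [Algebra.IsAlgebraic k Ω] (P : Ideal A) [P.IsPrime] (hA : ∀ t ∉ P, ∀ a : A, t * a = 0 → a = 0)
    (h : ∀ Q : Ideal (A ⊗[k] Ω), Q.IsPrime → Q.comap (algebraMap A (A ⊗[k] Ω)) = P →
      ∀ ν : A ⊗[k] Ω, IsNilpotent ν → ∃ t ∉ Q, t * ν = 0) :
    _root_.IsReduced (A ⊗[k] Ω) := by
  refine ⟨fun ν hν => ?_⟩
  by_contra hne
  let I : Ideal (A ⊗[k] Ω) := LinearMap.ker (LinearMap.toSpanSingleton (A ⊗[k] Ω) (A ⊗[k] Ω) ν)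
  by_cases hI : I.comap (algebraMap A (A ⊗[k] Ω)) ≤ P
  · obtain ⟨Q, hIQ, hQ, hQP⟩ := Ideal.exists_ideal_over_prime_of_isIntegral P I hI
    obtain ⟨t, ht, htν⟩ := h Q hQ hQP ν hν
    exact ht (hIQ (show t • ν = 0 from htν))
  · obtain ⟨a, haI, haP⟩ := SetLike.not_le_iff_exists.mp hI
    refine hne ?_
    have hr : IsSMulRegular (A ⊗[k] Ω) a :=
      Module.Flat.isSMulRegular_of_isRegular (R := A) (M := A ⊗[k] Ω)
        ⟨fun b c hbc => sub_eq_zero.mp (hA a haP (b - c) (by rw [mul_sub, sub_eq_zero]; exact hbc)),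
          fun b c hbc => sub_eq_zero.mp (hA a haP (b - c) (by rw [mul_sub, sub_eq_zero, mul_comm a b, mul_comm a c]; exact hbc))⟩
    have h0 : algebraMap A (A ⊗[k] Ω) a * ν = 0 := haI
    refine hr ?_
    show a • ν = a • 0
    rw [smul_zero, Algebra.smul_def, h0]

set_option backward.isDefEq.respectTransparency false in
/-- The geometrically reduced locus over a field is open. -/
theorem isOpen_setOf_isGeomReducedAt {k : Type u} [Field k] {X : Scheme.{u}} [IsLocallyNoetherian X]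
    (f : X ⟶ Spec (CommRingCat.of k)) : IsOpen {x : X | FBase.IsGeomReducedAt f x} := by
  refine isOpen_iff_forall_mem_open.mpr fun x hx => ?_
  obtain ⟨U, hxU, hU, hinj⟩ := X.exists_germ_injective x
  refine ⟨U, fun z hz => ?_, U.isOpen, hxU⟩
  let A := Γ(X, U)
  obtain ⟨α, hα⟩ := Spec.map_surjective (hU.fromSpec ≫ f)
  letI : Algebra k A := α.hom.toAlgebra
  let Ω := AlgebraicClosure k
  let b := Spec.map (CommRingCat.ofHom (algebraMap k Ω))
  let m₀ : pullback (Spec.map (CommRingCat.ofHom (algebraMap k A))) b ⟶ FBase.bc f Ω :=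
    pullback.map _ _ _ _ hU.fromSpec (𝟙 _) (𝟙 _) (by rw [Category.comp_id]; exact hα) (by simp [b])
  haveI : IsOpenImmersion m₀ := by infer_instance
  let m : Spec (CommRingCat.of (A ⊗[k] Ω)) ⟶ FBase.bc f Ω := (pullbackSpecIso k A Ω).inv ≫ m₀
  haveI : IsOpenImmersion m := inferInstance
  have hmπ : ∀ Q : ↥(Spec (CommRingCat.of (A ⊗[k] Ω))), (FBase.bcπ f Ω) (m Q) =
      hU.fromSpec (Spec.map (CommRingCat.ofHom (algebraMap A (A ⊗[k] Ω))) Q) := fun Q => by
    show (m ≫ FBase.bcπ f Ω) Q = (Spec.map (CommRingCat.ofHom (algebraMap A (A ⊗[k] Ω))) ≫ hU.fromSpec) Q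
    refine congrArg (fun φ : Spec (CommRingCat.of (A ⊗[k] Ω)) ⟶ X => φ Q) ?_
    show ((pullbackSpecIso k A Ω).inv ≫ m₀) ≫ pullback.fst f b = _
    rw [Category.assoc, pullback.lift_fst, pullbackSpecIso_inv_fst_assoc]
    rfl
  let P : PrimeSpectrum A := hU.primeIdealOf ⟨x, hxU⟩
  have hA : ∀ t ∉ P.asIdeal, ∀ a : A, t * a = 0 → a = 0 := by
    intro t ht a hta
    letI := TopCat.Presheaf.algebra_section_stalk X.presheaf ⟨x, hxU⟩
    haveI : IsLocalization.AtPrime (X.presheaf.stalk x) P.asIdeal := hU.isLocalization_stalk ⟨x, hxU⟩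
    refine hinj ?_
    rw [map_zero]
    show algebraMap A (X.presheaf.stalk x) a = 0
    refine (IsUnit.mul_right_eq_zero (IsLocalization.map_units (X.presheaf.stalk x) (⟨t, ht⟩ : P.asIdeal.primeCompl))).mp ?_
    rw [← map_mul, hta, map_zero]
  haveI : _root_.IsReduced (A ⊗[k] Ω) := isReduced_tensor_of_prime P.asIdeal hA fun Q hQ hQP ν hν => by
    let q : ↥(Spec (CommRingCat.of (A ⊗[k] Ω))) := (⟨Q, hQ⟩ : PrimeSpectrum (A ⊗[k] Ω))
    have hq : (FBase.bcπ f Ω) (m q) = x := by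
      rw [hmπ]
      refine (congrArg hU.fromSpec (?_ : _ = P)).trans (hU.fromSpec_primeIdealOf ⟨x, hxU⟩)
      exact PrimeSpectrum.ext hQP
    haveI := hx Ω (m q) hq
    let e := (asIso (m.stalkMap q)).commRingCatIsoToRingEquiv
    haveI : _root_.IsReduced ((Spec (CommRingCat.of (A ⊗[k] Ω))).presheaf.stalk q) :=
      isReduced_of_injective e.symm.toRingHom e.symm.injective
    letI : Algebra (A ⊗[k] Ω) ((Spec (CommRingCat.of (A ⊗[k] Ω))).presheaf.stalk q) := StructureSheaf.stalkAlgebra _ q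
    haveI : IsLocalization.AtPrime ((Spec (CommRingCat.of (A ⊗[k] Ω))).presheaf.stalk q) Q :=
      StructureSheaf.IsLocalization.to_stalk (CommRingCat.of (A ⊗[k] Ω)) q
    obtain ⟨t, ht⟩ := (IsLocalization.map_eq_zero_iff Q.primeCompl
      ((Spec (CommRingCat.of (A ⊗[k] Ω))).presheaf.stalk q) ν).mp (hν.map _).eq_zero
    exact ⟨t, t.2, ht⟩
  show FBase.IsGeomReducedAt f z
  rw [H22Alg.VarGeom.isGeomReducedAt_iff_algClosure]
  intro z' hz'
  obtain ⟨q, rfl⟩ : z' ∈ Set.range m := by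
    obtain ⟨w, hw⟩ : z' ∈ Set.range m₀ := by
      rw [show Set.range m₀ = _ from Scheme.Pullback.range_map ..]
      exact ⟨by
        show pullback.fst f b z' ∈ Set.range hU.fromSpec
        rw [hU.range_fromSpec, show pullback.fst f b z' = z from hz']
        exact hz, _, rfl⟩
    obtain ⟨q, rfl⟩ := (pullbackSpecIso k A Ω).inv.surjective w
    exact ⟨q, hw⟩
  exact isReduced_of_injective (asIso (m.stalkMap q)).commRingCatIsoToRingEquiv.toRingHom
    (asIso (m.stalkMap q)).commRingCatIsoToRingEquiv.injective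

end Groth.Agent.H06GeomRed
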