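import Groth.Agent.H06GeomRed.Field
import Groth.Agent.H7Flat.GeomReducedOpen
import Groth.Agent.H28Top.Noeth
import Groth.Agent.H06SecComp.GeomDescend

/-!
Openness of the locus where a morphism is flat with geometrically reduced fibre.
-/

set_option autoImplicit false
set_option backward.isDefEq.respectTransparency false
set_option linter.style.haveILetI false

open CategoryTheory CategoryTheory.Limits AlgebraicGeometry TopologicalSpace Topology TensorProduct

universe u

namespace Groth.Agent.H06GeomRed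

open Groth.Agent.H7Flat.GeomReduced

/-- Base changes to fields are reduced at points over a generization of a point of a geometrically reduced
fibre of a flat morphism. -/
theorem isReduced_stalk_pullback_of_specializes {X Y : Scheme.{u}} (f : X ⟶ Y) [Flat f]
    [LocallyOfFinitePresentation f] (x : X) (hy : GeometricallyReduced (f.fiberToSpecResidueField (f x)))
    (K : Type u) [Field K] (a : Spec (CommRingCat.of K) ⟶ Y) (z : ↥(pullback f a)) (hx : pullback.fst f a z ⤳ x) :
    _root_.IsReduced ((pullback f a).presheaf.stalk z) := by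
  obtain ⟨U, hU, hxU, -⟩ := exists_isAffineOpen_mem_and_subset (U := (⊤ : Y.Opens)) (x := f x) trivial
  obtain ⟨W, hW, hxW, hWU⟩ := exists_isAffineOpen_mem_and_subset (U := f ⁻¹ᵁ U) (x := x) hxU
  have e : W ≤ f ⁻¹ᵁ U := hWU
  obtain ⟨α, rfl⟩ : ∃ α : Γ(Y, U) ⟶ CommRingCat.of K, Spec.map α ≫ hU.fromSpec = a := by
    obtain ⟨α, hα⟩ := Spec.map_surjective (IsOpenImmersion.lift hU.fromSpec a (by
      rintro _ ⟨w, rfl⟩
      show a w ∈ Set.range hU.fromSpec
      rw [hU.range_fromSpec, Subsingleton.elim (α := PrimeSpectrum K) w (pullback.snd f a z), ← Scheme.Hom.comp_apply,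
        ← pullback.condition, Scheme.Hom.comp_apply]
      exact (hx.map f.continuous).mem_open U.2 hxU))
    exact ⟨α, by rw [hα, IsOpenImmersion.lift_fac]⟩
  letI := α.hom.toAlgebra
  letI := (f.appLE U W e).hom.toAlgebra
  obtain ⟨j, hj, hjr, hjQ⟩ := exists_chart f hU hW e K
  obtain ⟨Q, rfl⟩ : z ∈ Set.range j := hjr.ge (hx.mem_open W.2 hxW)
  haveI := hj
  suffices h : _root_.IsReduced
      ((Spec (CommRingCat.of (K ⊗[Γ(Y, U)] Γ(X, W)))).presheaf.stalk Q) from
    isReduced_of_injective (asIso (j.stalkMap Q)).commRingCatIsoToRingEquiv.toRingHom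
      (asIso (j.stalkMap Q)).commRingCatIsoToRingEquiv.injective
  let B := CommRingCat.of (K ⊗[Γ(Y, U)] Γ(X, W))
  letI : Algebra B ((Spec B).presheaf.stalk Q) := StructureSheaf.stalkAlgebra B Q
  haveI : IsLocalization.AtPrime ((Spec B).presheaf.stalk Q) (Q : PrimeSpectrum B).asIdeal :=
    StructureSheaf.IsLocalization.to_stalk B Q
  refine isReduced_localization_of_forall (Q : PrimeSpectrum B).asIdeal _ fun ν hν => ?_
  haveI : Algebra.FinitePresentation Γ(Y, U) Γ(X, W) := f.finitePresentation_appLE hU hW e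
  haveI : Module.Flat Γ(Y, U) Γ(X, W) := (HasRingHomProperty.appLE @Flat f ‹_› ⟨U, hU⟩ ⟨W, hW⟩ e :)
  obtain ⟨R₀, hR₀, A₀, _, _, hfp, hflat, ⟨ε⟩⟩ := H13Flat.exists_flat_stage Γ(Y, U) Γ(X, W)
  haveI : IsNoetherianRing R₀ := by
    haveI := R₀.fg_iff_finiteType.1 hR₀
    exact Algebra.FiniteType.isNoetherianRing ℤ R₀
  obtain ⟨EK, hEK⟩ := exists_baseChange_equiv ε K
  let g₀ : A₀ →ₐ[R₀] Γ(X, W) :=
    (ε.toAlgHom.restrictScalars R₀).comp Algebra.TensorProduct.includeRight
  let qx := hW.primeIdealOf ⟨x, hxW⟩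
  obtain ⟨s, hs, hsν⟩ := exists_annihilator_of_generization (R := R₀) (A := A₀)
    (qx.asIdeal.comap g₀.toRingHom) (K := K) (fun L _ _ hL => by
      let p := (hU.primeIdealOf ⟨f x, hxU⟩).asIdeal
      have hp : qx.asIdeal.comap (algebraMap Γ(Y, U) Γ(X, W)) = p := by
        refine congrArg PrimeSpectrum.asIdeal (hU.fromSpec.isOpenEmbedding.injective
          (a₁ := Spec.map (f.appLE U W e) qx) ?_)
        rw [← Scheme.Hom.comp_apply, IsAffineOpen.SpecMap_appLE_fromSpec f hU hW e,
          Scheme.Hom.comp_apply, hW.fromSpec_primeIdealOf, hU.fromSpec_primeIdealOf]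
      haveI : p.IsPrime := (hU.primeIdealOf ⟨f x, hxU⟩).isPrime
      have hp₀ : RingHom.ker (algebraMap R₀ L) = p.comap (algebraMap R₀ Γ(Y, U)) := by
        rw [hL, ← hp, Ideal.comap_comap, Ideal.comap_comap]
        congr 1
        exact RingHom.ext fun r => (g₀.commutes r).trans (IsScalarTower.algebraMap_apply R₀ Γ(Y, U) Γ(X, W) r)
      let p₀ := p.comap (algebraMap R₀ Γ(Y, U))
      let φ : p₀.ResidueField →+* L := Ideal.ResidueField.lift p₀ (algebraMap R₀ L) hp₀.ge
        (fun r hr => isUnit_iff_ne_zero.2 fun h0 => hr (hp₀.le h0))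
      let ψ : p₀.ResidueField →+* p.ResidueField :=
        Ideal.ResidueField.map p₀ p (algebraMap R₀ Γ(Y, U)) rfl
      obtain ⟨M, _, aL, bP, hab⟩ := H8Props.GeometricDescent.exists_compositum φ ψ
      letI : Algebra Γ(Y, U) M := (bP.comp (algebraMap Γ(Y, U) p.ResidueField)).toAlgebra
      letI : Algebra R₀ M := ((algebraMap Γ(Y, U) M).comp (algebraMap R₀ Γ(Y, U))).toAlgebra
      haveI : IsScalarTower R₀ Γ(Y, U) M := IsScalarTower.of_algebraMap_eq fun _ => rfl
      let i : L →ₐ[R₀] M :=
        { aL with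
          commutes' := fun r => by
            have h := RingHom.congr_fun hab (algebraMap R₀ p₀.ResidueField r)
            rw [RingHom.comp_apply, RingHom.comp_apply] at h
            show aL (algebraMap R₀ L r) = bP (algebraMap Γ(Y, U) p.ResidueField (algebraMap R₀ Γ(Y, U) r))
            convert h using 2
            · exact (Ideal.ResidueField.lift_algebraMap _ _ _ _ r).symm
            · exact (Ideal.ResidueField.map_algebraMap ..).symm }
      haveI : IsReduced (pullback f (Spec.map (CommRingCat.ofHom (algebraMap Γ(Y, U) M)) ≫ hU.fromSpec)) :=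
        (H7Flat.GeomReduced.geometricallyReduced_fiber_iff f (f x)).1 hy M _ (by
          rw [Scheme.Hom.comp_apply]
          have hm : Spec.map (CommRingCat.ofHom (algebraMap Γ(Y, U) M)) (IsLocalRing.closedPoint M) =
              hU.primeIdealOf ⟨f x, hxU⟩ := by
            refine PrimeSpectrum.ext ?_
            show (IsLocalRing.maximalIdeal M).comap (bP.comp (algebraMap Γ(Y, U) p.ResidueField)) = p
            rw [← Ideal.comap_comap, (Ideal.eq_bot_or_top _).resolve_right (IsLocalRing.maximalIdeal.isMaximal M).ne_top,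
              ← RingHom.ker_eq_comap_bot, (RingHom.injective_iff_ker_eq_bot _).1 bP.injective,
              ← RingHom.ker_eq_comap_bot, Ideal.ker_algebraMap_residueField]
          exact (congrArg (fun t => hU.fromSpec t) hm).trans (hU.fromSpec_primeIdealOf _))
      obtain ⟨j', hj', -, -⟩ := exists_chart f hU hW e M
      haveI := hj'
      haveI : _root_.IsReduced (M ⊗[Γ(Y, U)] Γ(X, W)) :=
        (affine_isReduced_iff _).1 (isReduced_of_isOpenImmersion j')
      haveI : _root_.IsReduced (M ⊗[R₀] A₀) := isReduced_of_injective (exists_baseChange_equiv ε M).choose.toRingEquiv.toRingHom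
          (exists_baseChange_equiv ε M).choose.injective
      exact isReduced_of_injective (Algebra.TensorProduct.map i (AlgHom.id R₀ A₀)).toRingHom
        (Module.Flat.rTensor_preserves_injective_linearMap (M := A₀) i.toLinearMap aL.injective))
    ((Q : PrimeSpectrum B).asIdeal.comap EK.toRingEquiv.toRingHom) (by
      intro a ha
      have ha' : EK ((1 : K) ⊗ₜ a) ∈ (Q : PrimeSpectrum B).asIdeal := ha
      rw [hEK] at ha'
      have hsp : (PrimeSpectrum.comap (Algebra.TensorProduct.includeRight :
          Γ(X, W) →ₐ[Γ(Y, U)] K ⊗[Γ(Y, U)] Γ(X, W)).toRingHom Q) ⤳ qx := by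
        refine hW.fromSpec.isEmbedding.specializes_iff.1 ?_
        rw [← hjQ, hW.fromSpec_primeIdealOf]
        exact hx
      exact (PrimeSpectrum.le_iff_specializes _ _).2 hsp ha')
    (EK.symm ν) (hν.map _)
  refine ⟨EK s, hs, ?_⟩
  rw [← EK.apply_symm_apply ν, ← map_mul, hsν, map_zero]

end Groth.Agent.H06GeomRed
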